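import Cfsg.Agent.Lib.Mult.Glue
import Cfsg.Agent.Lib.Grp.He.Main

set_option autoImplicit false
set_option maxRecDepth 100000
set_option Elab.async false

namespace Cfsg.Agent.Mult.He

open Cfsg.Agent.CG Cfsg.Agent.CG.He

noncomputable def p3T : ℕ := 0xc020c020c0200000000f806080200000000000004020000000000000000
noncomputable def p3q1 : ℕ := 0x30201
noncomputable def p3q2 : ℕ := 0x33af5
noncomputable def p3NF : ℕ := 0x40000000000001000000000000000000000000000000000001000000000000040000000000000000000000000000000000000000000000200000000000000000000000000000000000000000000000000000000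
noncomputable def p3gv : ℕ := 0x8000001000000001000000001000000000
noncomputable def p3av : ℕ := 0x2000000000000000000000000000000000000
noncomputable def p3mu : ℕ := 0x20800002000000000800000000000
noncomputable def p3om : ℕ := 0x0
noncomputable def p3tm : ℕ := 0x9990549932999199999
noncomputable def p3par : ℕ := 0xe6a925
noncomputable def p3z : Desc := ⟨0,0,0,0,[],[]⟩
noncomputable def p3ds : Tr Desc := (.node (.node (.node (.node (.node (.leaf p3z) (.leaf p3z)) (.leaf p3z)) (.node (.leaf p3z) (.leaf p3z))) (.node (.node (.node (.leaf p3z) (.leaf p3z)) (.leaf ⟨0,2,0,0,[],[]⟩)) (.node (.leaf p3z) (.leaf ⟨0,4,0,0,[],[]⟩)))) (.node (.node (.node (.node (.leaf p3z) (.leaf p3z)) (.leaf ⟨0,1,0,0,[],[]⟩)) (.node (.leaf ⟨0,0,0,0,[],[]⟩) (.leaf ⟨0,3,0,0,[],[]⟩))) (.node (.node (.leaf p3z) (.leaf p3z)) (.node (.leaf p3z) (.leaf ⟨1,0x2,1,1,[],[]⟩)))))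
noncomputable def p3rd : Tr Desc := (.node (.node (.leaf ⟨2,0,0,0,[2,1],[1,2]⟩) (.leaf ⟨2,0,0,0,[1,1,1],[]⟩)) (.node (.leaf ⟨2,0,0,0,[2,0],[0,2]⟩) (.leaf ⟨2,0,0,0,[0,0,0],[]⟩)))
noncomputable def D3 : Dat where
  p := 3
  q := 3
  n1 := 4
  b := 2
  fl := 4
  ew := 16
  T := p3T
  w := 9
  fuel := 13
  nf := 1
  cm := 3
  q1 := fun x => look 0xff p3q1 (Nat.mul 8 x)
  q2 := fun x => look 0xff p3q2 (Nat.mul 8 x)
  NV := 19
  d := 5
  w2 := 9
  NF := fun x => look 0x1fffffffffff p3NF (Nat.mul 45 x)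
  tm := fun x => look 0xf p3tm (Nat.mul 4 x)
  TM := 9
  par := fun x => look 0x1f p3par (Nat.mul 5 x)
  ds := fun x => p3ds.get x
  r := 4
  s0 := 0
  gv := fun x => look 0x1fffffffffff p3gv (Nat.mul 45 x)
  rd := fun x => p3rd.get x
  av := fun x => look 0x1fffffffffff p3av (Nat.mul 45 x)
  mw := 2
  mu := fun x => look 0xff p3mu (Nat.mul 8 x)
  ms := []
  om := fun x => look 0xff p3om (Nat.mul 8 x)
noncomputable def p3w1 : List (List ℕ) := [[67,18,2,27,1,62,28,32,35,33,35,37,39],
  [38,2,21,4,35,28,31,35,37,39],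
  [55,52,2,27,46,34,35,37,39],
  [54,6,2,34,0,37,27,35,33,35,37,39]]
noncomputable def p3w2 : List (List ℕ) := [[1],
  [2],
  [3]]
noncomputable def p3L0c : ℕ := 0x2270c8600f43b2806e0ba4111031204390
noncomputable def p3L0p : ℕ := 0x50008000c0010001000000040000000
noncomputable def p3L0l : ℕ := 0x20004000800100020004000c0018000
noncomputable def p3L0q : ℕ := 0x380000002000c0000004000400000000000000c00000000000000000140000008
noncomputable def p3L1c : ℕ := 0x190c113803d0
noncomputable def p3L1p : ℕ := 0x40000000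
noncomputable def p3L1l : ℕ := 0x40008000
noncomputable def p3L1q : ℕ := 0x400000008000000000000000000
noncomputable def p3L : List Lvl := [mkLvl 17296 [3,2] 9 15 p3L0c p3L0p p3L0l 19 p3L0q,
  mkLvl 976 [1] 3 15 p3L1c p3L1p p3L1l 9 p3L1q]

theorem p3c0 : okcb 2058 16 (bases p3L) = true := by decide +kernel
theorem p3c1 : D3.chkNum 0 3 4030387200 p3w2 p3L = true := by decide +kernel
theorem p3c2 : headAll (appW (appW app p3w1) p3w2) p3L [] = true := by decide +kernel
theorem p3c3 : allL (fun l => l.chk (appW (appW app p3w1) p3w2) 1 (l.N - 1)) p3L = true := by decide +kernel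
theorem p3c4 : D3.chkPc (appW app p3w1) bs 0 16 = true := by decide +kernel
theorem p3c5 : D3.chkFus (appW app p3w1) bs 0 3 = true := by decide +kernel
theorem p3c6 : D3.chkHead = true := by decide +kernel
theorem p3c7 : D3.chkVars 0 19 = true := by decide +kernel
theorem p3c8 : D3.chkRhos 0 4 = true := by decide +kernel
theorem p3c9 : D3.chkEnts 0 16 = true := by decide +kernel

theorem pb3 : PB PG 3 [] :=
  Dat.pbA (D := D3) base card (by norm_num : Nat.Prime 3) (okc_of_okcb p3c0) p3c1 p3c2 p3c3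
    p3c4
    p3c5
    p3c6 p3c7
    p3c8
    p3c9

end Cfsg.Agent.Mult.He
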