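import Cfsg.Agent.Lib.Mult.Glue
import Cfsg.Agent.Lib.Grp.He.Main

set_option autoImplicit false
set_option maxRecDepth 100000
set_option Elab.async false

namespace Cfsg.Agent.Mult.He

open Cfsg.Agent.CG Cfsg.Agent.CG.He

noncomputable def p5T : ℕ := 0x802802000000402000000000
noncomputable def p5q1 : ℕ := 0x21
noncomputable def p5q2 : ℕ := 0xa5
noncomputable def p5NF : ℕ := 0x100000000010000000000000000000000001000000000000000000000000000000
noncomputable def p5gv : ℕ := 0xc00004000000000001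
noncomputable def p5av : ℕ := 0x0
noncomputable def p5mu : ℕ := 0x20600000004000000000
noncomputable def p5om : ℕ := 0x0
noncomputable def p5tm : ℕ := 0x16a368b6d
noncomputable def p5par : ℕ := 0x874
noncomputable def p5z : Desc := ⟨0,0,0,0,[],[]⟩
noncomputable def p5ds : Tr Desc := (.node (.node (.node (.node (.leaf p5z) (.leaf ⟨0,2,0,0,[],[]⟩)) (.leaf ⟨0,0,0,0,[],[]⟩)) (.node (.node (.leaf p5z) (.leaf p5z)) (.leaf p5z))) (.node (.node (.node (.leaf p5z) (.leaf p5z)) (.leaf p5z)) (.node (.leaf p5z) (.leaf ⟨0,1,0,0,[],[]⟩))))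
noncomputable def p5rd : Tr Desc := (.node (.node (.leaf ⟨2,0,0,0,[0,0,0,0,0],[]⟩) (.leaf ⟨2,0,0,0,[1,0],[0,1]⟩)) (.leaf ⟨2,0,0,0,[1,1,1,1,1],[]⟩))
noncomputable def D5 : Dat where
  p := 5
  q := 5
  n1 := 3
  b := 2
  fl := 2
  ew := 12
  T := p5T
  w := 10
  fuel := 11
  nf := 1
  cm := 2
  q1 := fun x => look 0xf p5q1 (Nat.mul 4 x)
  q2 := fun x => look 0xf p5q2 (Nat.mul 4 x)
  NV := 11
  d := 3
  w2 := 10
  NF := fun x => look 0x3fffffff p5NF (Nat.mul 30 x)
  tm := fun x => look 0x7 p5tm (Nat.mul 3 x)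
  TM := 5
  par := fun x => look 0xf p5par (Nat.mul 4 x)
  ds := fun x => p5ds.get x
  r := 3
  s0 := 0
  gv := fun x => look 0x3fffffff p5gv (Nat.mul 30 x)
  rd := fun x => p5rd.get x
  av := fun x => look 0x3fffffff p5av (Nat.mul 30 x)
  mw := 3
  mu := fun x => look 0x1ff p5mu (Nat.mul 9 x)
  ms := []
  om := fun x => look 0x1ff p5om (Nat.mul 9 x)
noncomputable def p5w1 : List (List ℕ) := [[23,17,25,49,28,61,45,65],
  [66,24,1,35,28,29,29,33,35],
  [50,57,6,27,4,31,27,31,29,35,33,37]]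
noncomputable def p5w2 : List (List ℕ) := [[1],
  [2]]
noncomputable def p5L0c : ℕ := 0x21f041a0bd0072060f0
noncomputable def p5L0p : ℕ := 0x3000400040000000
noncomputable def p5L0l : ℕ := 0x1000200040008000
noncomputable def p5L0q : ℕ := 0x10000000800000040000000c0000000
noncomputable def p5L1c : ℕ := 0x124058e113c37884ae0
noncomputable def p5L1p : ℕ := 0x3000400040000000
noncomputable def p5L1l : ℕ := 0x2000400080010000
noncomputable def p5L1q : ℕ := 0x100000000000000000000001000000000000000000600080000000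
noncomputable def p5L : List Lvl := [mkLvl 24816 [1] 5 15 p5L0c p5L0p p5L0l 13 p5L0q,
  mkLvl 19168 [2] 5 15 p5L1c p5L1p p5L1l 17 p5L1q]

theorem p5c0 : okcb 2058 16 (bases p5L) = true := by decide +kernel
theorem p5c1 : D5.chkNum 0 2 4030387200 p5w2 p5L = true := by decide +kernel
theorem p5c2 : headAll (appW (appW app p5w1) p5w2) p5L [] = true := by decide +kernel
theorem p5c3 : allL (fun l => l.chk (appW (appW app p5w1) p5w2) 1 (l.N - 1)) p5L = true := by decide +kernel
theorem p5c4 : D5.chkPc (appW app p5w1) bs 0 9 = true := by decide +kernel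
theorem p5c5 : D5.chkFus (appW app p5w1) bs 0 2 = true := by decide +kernel
theorem p5c6 : D5.chkHead = true := by decide +kernel
theorem p5c7 : D5.chkVars 0 11 = true := by decide +kernel
theorem p5c8 : D5.chkRhos 0 3 = true := by decide +kernel
theorem p5c9 : D5.chkEnts 0 9 = true := by decide +kernel

theorem pb5 : PB PG 5 [] :=
  Dat.pbA (D := D5) base card (by norm_num : Nat.Prime 5) (okc_of_okcb p5c0) p5c1 p5c2 p5c3
    p5c4
    p5c5
    p5c6 p5c7
    p5c8
    p5c9

end Cfsg.Agent.Mult.He
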